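import Groth.Agent.Lib.CplDomain.J2
import Mathlib

/-! # Derivations of domains of finite type over complete local rings -/

set_option autoImplicit false
set_option linter.style.haveILetI false
universe u

open IsLocalRing MvPowerSeries

namespace Groth.Agent.Deriv1

open Groth.Agent.CplDomain

/-- A polynomial over a field extension which is a quotient of polynomials over the smaller field has its
coefficients there. -/
theorem coeff_mem_range {k K : Type u} [Field k] [Field K] [Algebra k K] {σ : Type} (N : MvPolynomial σ K)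
    (b c : MvPolynomial σ k) (hb : b ≠ 0)
    (h : N * MvPolynomial.map (algebraMap k K) b = MvPolynomial.map (algebraMap k K) c) (m : σ →₀ ℕ) :
    N.coeff m ∈ Set.range (algebraMap k K) := by
  classical
  obtain ⟨θ, hθ⟩ := LinearMap.exists_leftInverse_of_injective (Algebra.linearMap k K)
    (LinearMap.ker_eq_bot.2 (algebraMap k K).injective)
  let Θ : MvPolynomial σ K →ₗ[k] MvPolynomial σ k :=
    (AddMonoidAlgebra.coeffLinearEquiv k).symm.toLinearMap.comp
      ((Finsupp.mapRange.linearMap θ).comp (AddMonoidAlgebra.coeffLinearEquiv k).toLinearMap)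
  have hc : ∀ q m, (Θ q).coeff m = θ (q.coeff m) := fun q m => by
    rfl
  have hid : ∀ x : k, θ (algebraMap k K x) = x := fun x => LinearMap.congr_fun hθ x
  have hmapc : ∀ q : MvPolynomial σ k, Θ (MvPolynomial.map (algebraMap k K) q) = q := fun q =>
    MvPolynomial.ext _ _ fun m => by rw [hc, MvPolynomial.coeff_map, hid]
  have hlin : ∀ (q : MvPolynomial σ K) (r : MvPolynomial σ k),
      Θ (q * MvPolynomial.map (algebraMap k K) r) = Θ q * r := fun q r => MvPolynomial.ext _ _ fun m => by
    rw [hc, MvPolynomial.coeff_mul, MvPolynomial.coeff_mul, map_sum]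
    refine Finset.sum_congr rfl fun x _ => ?_
    rw [MvPolynomial.coeff_map, mul_comm, ← Algebra.smul_def, map_smul, hc, smul_eq_mul, mul_comm]
  have h1 : Θ N * b = c := by rw [← hlin, h, hmapc]
  have h2 : N = MvPolynomial.map (algebraMap k K) (Θ N) := by
    have hb' : MvPolynomial.map (algebraMap k K) b ≠ 0 := fun h0 =>
      hb (MvPolynomial.map_injective _ (algebraMap k K).injective (h0.trans (map_zero _).symm))
    refine mul_right_cancel₀ hb' ?_
    rw [h, ← map_mul, h1]
  exact ⟨(Θ N).coeff m, by rw [← MvPolynomial.coeff_map, ← h2]⟩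

/-- Derivations of domains of finite type over power series rings over fields. -/
theorem exists_derivation_of_finiteType (B : Type u) [CommRing B] [IsDomain B] (L : Type u) [Field L] [Algebra B L]
    [IsFractionRing B L] (p : ℕ) [Fact p.Prime] [CharP B p] (f : B) (hf : ∀ z : L, z ^ p ≠ algebraMap B L f)
    (Λ : Type u) [Field Λ] (n : ℕ) (φ : MvPowerSeries (Fin n) Λ →+* B) (hφinj : Function.Injective φ)
    (hφft : φ.FiniteType) : ∃ D : Derivation ℤ B B, D f ≠ 0 := by
  classical
  haveI : CharP (MvPowerSeries (Fin n) Λ) p := (RingHom.charP_iff φ hφinj p).mpr inferInstance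
  haveI : CharP Λ p := (RingHom.charP_iff (MvPowerSeries.C : Λ →+* MvPowerSeries (Fin n) Λ)
    MvPowerSeries.C_injective p).mpr inferInstance
  obtain ⟨ι, δ, hδ, hfin⟩ := exists_field_derivations Λ p
  let ψ : MvPowerSeries (Fin n) Λ →+* L := (algebraMap B L).comp φ
  have hψ : Function.Injective ψ := (IsFractionRing.injective B L).comp hφinj
  haveI : CharP L p := (RingHom.charP_iff (algebraMap B L) (IsFractionRing.injective B L) p).mp inferInstance
  have hp1 : 1 ≤ p := (Fact.out : p.Prime).one_le
  have hp0 : 0 < p := (Fact.out : p.Prime).pos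
  have hpowk : ∀ (T : Finset ι) (a : MvPowerSeries (Fin n) Λ), a ^ p ∈ killed δ T := fun T a =>
    ⟨fun j => derivation_pow_char p (MvPowerSeries.pderiv Λ j) a,
      fun i _ => derivation_pow_char p (coeffDer (δ i)) a⟩
  let F₀ : Finset ι → Subfield L := fun T => fieldKilled δ ψ T
  have hFmem : ∀ T, ∀ z ∈ F₀ T, ∃ a b : MvPowerSeries (Fin n) Λ, a ∈ killed δ T ∧ b ∈ killed δ T ∧ z = ψ a / ψ b := by
    intro T z hz
    obtain ⟨x, hx, y, hy, rfl⟩ := Subfield.mem_closure_iff.mp hz
    rw [Subring.closure_eq] at hx hy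
    obtain ⟨a, ha, rfl⟩ := hx
    obtain ⟨b, hb, rfl⟩ := hy
    exact ⟨a, b, ha, hb, rfl⟩
  have hmono₀ : ∀ {T T' : Finset ι}, T ⊆ T' → F₀ T' ≤ F₀ T := fun {T T'} h => by
    refine Subfield.closure_mono ?_
    rintro _ ⟨a, ha, rfl⟩
    exact ⟨a, ⟨ha.1, fun i hi => ha.2 i (h hi)⟩, rfl⟩
  let Kt : Subfield L := Subfield.closure (Set.range ψ)
  have hK : ∀ T, F₀ T ≤ Kt := fun T => by
    refine Subfield.closure_mono ?_
    rintro _ ⟨a, -, rfl⟩
    exact ⟨a, rfl⟩
  have hKpow : ∀ z ∈ Kt, ∀ T, z ^ p ∈ F₀ T := by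
    intro z hz T
    obtain ⟨x, hx, y, hy, rfl⟩ := Subfield.mem_closure_iff.mp hz
    rw [← RingHom.coe_range, Subring.closure_eq] at hx hy
    obtain ⟨a, rfl⟩ := hx
    obtain ⟨b, rfl⟩ := hy
    rw [div_pow, ← map_pow, ← map_pow]
    exact div_mem (Subfield.subset_closure ⟨_, hpowk T a, rfl⟩) (Subfield.subset_closure ⟨_, hpowk T b, rfl⟩)
  have hroot₀ : ∀ z, (∀ T, z ∈ F₀ T) → ∃ w : L, w ^ p = z := by
    intro z hz
    obtain ⟨a, b, -, -, rfl⟩ := hFmem ∅ z (hz ∅)
    by_cases hb0 : b = 0
    · exact ⟨0, by rw [zero_pow (Fact.out : p.Prime).ne_zero, hb0, map_zero, div_zero]⟩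
    obtain ⟨g, hg⟩ := exists_root_of_killed δ p hδ (f := a * b ^ (p - 1)) fun T => by
      obtain ⟨a', b', ha', hb', h⟩ := hFmem T _ (hz T)
      by_cases hb0' : b' = 0
      · rw [hb0', map_zero, div_zero, div_eq_zero_iff] at h
        rcases h with h | h
        · rw [(injective_iff_map_eq_zero ψ).mp hψ a h, zero_mul]; exact zero_mem _
        · exact absurd ((injective_iff_map_eq_zero ψ).mp hψ b h) hb0
      rw [div_eq_div_iff ((map_ne_zero_iff ψ hψ).mpr hb0) ((map_ne_zero_iff ψ hψ).mpr hb0'), ← map_mul, ← map_mul] at h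
      have hc : a * b ^ (p - 1) * b' = a' * b ^ p := by
        rw [mul_right_comm, hψ h, mul_assoc, ← pow_succ', Nat.sub_add_cancel (Fact.out : p.Prime).one_le]
      refine ⟨fun j => ?_, fun i hi => ?_⟩
      · have h1 := congrArg (MvPowerSeries.pderiv Λ j) hc
        rw [Derivation.leibniz, Derivation.leibniz (MvPowerSeries.pderiv Λ j) a', hb'.1 j, ha'.1 j,
          (hpowk T b).1 j, smul_zero, smul_zero, smul_zero, add_zero, zero_add, smul_eq_mul] at h1
        exact (mul_eq_zero.mp h1).resolve_left hb0'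
      · have h1 := congrArg (coeffDer (δ i)) hc
        rw [Derivation.leibniz, Derivation.leibniz (coeffDer (δ i)) a', hb'.2 i hi, ha'.2 i hi,
          (hpowk T b).2 i hi, smul_zero, smul_zero, smul_zero, add_zero, zero_add, smul_eq_mul] at h1
        exact (mul_eq_zero.mp h1).resolve_left hb0'
    refine ⟨ψ g / ψ b, ?_⟩
    have hb' : ψ b ≠ 0 := (map_ne_zero_iff ψ hψ).mpr hb0
    rw [div_pow, ← map_pow, hg, map_mul, map_pow, ← Nat.sub_add_cancel (Fact.out : p.Prime).one_le, pow_succ,
      Nat.add_sub_cancel]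
    field_simp
  -- generators and a transcendence basis among them
  letI := φ.toAlgebra
  haveI : Algebra.FiniteType (MvPowerSeries (Fin n) Λ) B := hφft
  obtain ⟨G, hG⟩ := Algebra.FiniteType.out (R := MvPowerSeries (Fin n) Λ) (A := B)
  let GG : Finset L := G.image (algebraMap B L)
  obtain ⟨s, hs, hmax⟩ : ∃ s : Finset L, (s ⊆ GG ∧ AlgebraicIndepOn Kt id (s : Set L)) ∧
      ∀ g ∈ GG, g ∉ s → ¬ AlgebraicIndepOn Kt id ((insert g s : Finset L) : Set L) := by
    let S := GG.powerset.filter fun s => AlgebraicIndepOn Kt id ((s : Finset L) : Set L)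
    obtain ⟨s, hs, hmax⟩ := S.exists_max_image Finset.card ⟨∅, by
      rw [Finset.mem_filter, Finset.mem_powerset, Finset.coe_empty]
      exact ⟨Finset.empty_subset _, (algebraicIndependent_empty_type_iff).2 (algebraMap Kt L).injective⟩⟩
    rw [Finset.mem_filter, Finset.mem_powerset] at hs
    refine ⟨s, hs, fun g hg hgs hins => ?_⟩
    have := hmax (insert g s) (by
      rw [Finset.mem_filter, Finset.mem_powerset]
      exact ⟨Finset.insert_subset hg hs.1, hins⟩)
    rw [Finset.card_insert_of_notMem hgs] at this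
    omega
  obtain ⟨m, t, htr, hti⟩ : ∃ (m : ℕ) (t : Fin m → L), Set.range t = (s : Set L) ∧ AlgebraicIndependent Kt t := by
    refine ⟨s.card, fun i => (s.equivFin.symm i : L), ?_, ?_⟩
    · ext x
      exact ⟨fun ⟨i, hi⟩ => hi ▸ (s.equivFin.symm i).2, fun hx => ⟨s.equivFin ⟨x, hx⟩, by simp⟩⟩
    · exact hs.2.comp s.equivFin.symm s.equivFin.symm.injective
  let τ : Fin m → L := fun i => t i ^ p
  have hτi : AlgebraicIndependent Kt τ := by
    refine algebraicIndependent_iff_injective_aeval.2 fun P Q hPQ => ?_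
    have hcomp : ∀ P : MvPolynomial (Fin m) Kt,
        MvPolynomial.aeval τ P = MvPolynomial.aeval t (MvPolynomial.expand p P) := fun P => by
      rw [MvPolynomial.aeval_expand]
      rfl
    rw [hcomp, hcomp] at hPQ
    exact MvPolynomial.expand_injective hp0 (algebraicIndependent_iff_injective_aeval.1 hti hPQ)
  let F : Finset ι → Subfield L := fun T => (IntermediateField.adjoin (F₀ T) (Set.range τ)).toSubfield
  have hF₀ : ∀ T, F₀ T ≤ F T := fun T x hx =>
    (IntermediateField.adjoin (F₀ T) (Set.range τ)).algebraMap_mem ⟨x, hx⟩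
  have hmono : ∀ {T T' : Finset ι}, T ⊆ T' → F T' ≤ F T := fun {T T'} h x hx => by
    induction hx using IntermediateField.adjoin_induction with
    | mem x hx => exact IntermediateField.subset_adjoin (F₀ T) _ hx
    | algebraMap c => exact hF₀ T (hmono₀ h c.2)
    | add x y _ _ hx hy => exact add_mem hx hy
    | inv x _ hx => exact inv_mem hx
    | mul x y _ _ hx hy => exact mul_mem hx hy
  have hroot : ∀ z, (∀ T, z ∈ F T) → ∃ w : L, w ^ p = z := by
    intro z hz
    have hrep : ∀ T, ∃ a b : MvPolynomial (Fin m) (F₀ T),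
        z = MvPolynomial.aeval τ a / MvPolynomial.aeval τ b := fun T =>
      (IntermediateField.mem_adjoin_range_iff (F := F₀ T) τ z).1 (hz T)
    choose aT bT hT using hrep
    let j : ∀ T, F₀ T →+* Kt := fun T => Subfield.inclusion (hK T)
    have hj : ∀ T (q : MvPolynomial (Fin m) (F₀ T)),
        MvPolynomial.aeval τ (MvPolynomial.map (j T) q) = MvPolynomial.aeval τ q := fun T q => by
      rw [MvPolynomial.aeval_def, MvPolynomial.eval₂_map, MvPolynomial.aeval_def]
      rfl
    let Bv := MvPolynomial.map (j ∅) (bT ∅)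
    by_cases hB0 : MvPolynomial.aeval τ (bT ∅) = 0
    · exact ⟨0, by rw [hT ∅, hB0, div_zero, zero_pow (Fact.out : p.Prime).ne_zero]⟩
    let N : MvPolynomial (Fin m) Kt := MvPolynomial.map (j ∅) (aT ∅) * Bv ^ (p - 1)
    have hN : ∀ k, ∃ w : L, w ^ p = ((N.coeff k : Kt) : L) := by
      intro k
      refine hroot₀ _ fun T => ?_
      by_cases hb0 : MvPolynomial.aeval τ (bT T) = 0
      · have hz0 : z = 0 := by rw [hT T, hb0, div_zero]
        have hN0 : N = 0 := by
          have : MvPolynomial.map (j ∅) (aT ∅) = 0 := algebraicIndependent_iff_injective_aeval.1 hτi (by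
            rw [hj, map_zero]
            have h0 := hT ∅
            rw [hz0, eq_comm, div_eq_zero_iff] at h0
            exact h0.resolve_right hB0)
          simp only [N, this, zero_mul]
        rw [hN0, MvPolynomial.coeff_zero, ZeroMemClass.coe_zero]
        exact zero_mem _
      letI : Algebra (F₀ T) Kt := (j T).toAlgebra
      have hBp : ∃ q : MvPolynomial (Fin m) (F₀ T), MvPolynomial.map (j T) q = Bv ^ p := by
        refine MvPolynomial.mem_range_map_iff_coeffs_subset.2 fun c hc => ?_
        obtain ⟨d, -, rfl⟩ := MvPolynomial.mem_coeffs_iff.1 hc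
        haveI : CharP Kt p := (RingHom.charP_iff (algebraMap Kt L) (algebraMap Kt L).injective p).mpr inferInstance
        rw [← MvPolynomial.map_frobenius_expand p]
        rw [MvPolynomial.coeff_map]
        exact ⟨⟨_, hKpow _ ((MvPolynomial.expand p Bv).coeff d).2 T⟩, rfl⟩
      obtain ⟨q, hq⟩ := hBp
      have hb0' : bT T ≠ 0 := fun h => hb0 (by rw [h, map_zero])
      obtain ⟨y, hy⟩ := coeff_mem_range (k := F₀ T) (K := Kt) N (bT T) (aT T * q) hb0' (by
        show N * MvPolynomial.map (j T) (bT T) = MvPolynomial.map (j T) (aT T * q)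
        apply algebraicIndependent_iff_injective_aeval.1 hτi
        simp only [N, Bv, map_mul, map_pow, hj, hq]
        have e := (hT ∅).symm.trans (hT T)
        rw [div_eq_div_iff hB0 hb0] at e
        rw [← Nat.sub_add_cancel hp1, pow_succ, Nat.add_sub_cancel]
        linear_combination (MvPolynomial.aeval τ (bT ∅) ^ (p - 1)) * e) k
      rw [← hy]
      exact y.2
    choose w hw using hN
    refine ⟨(∑ k ∈ N.support, w k * k.prod fun i e => t i ^ e) / MvPolynomial.aeval τ (bT ∅), ?_⟩
    rw [div_pow, sum_pow_char, hT ∅, div_eq_div_iff (pow_ne_zero _ hB0) hB0]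
    have e : MvPolynomial.aeval τ N = ∑ k ∈ N.support, (w k * k.prod fun i e => t i ^ e) ^ p := by
      conv_lhs => rw [N.as_sum, map_sum]
      refine Finset.sum_congr rfl fun k _ => ?_
      rw [MvPolynomial.aeval_monomial, mul_pow, hw]
      congr 1
      simp only [Finsupp.prod, τ]
      rw [← Finset.prod_pow]
      exact Finset.prod_congr rfl fun i _ => by rw [← pow_mul, ← pow_mul, mul_comm]
    rw [← e, show N = _ from rfl, map_mul, map_pow, hj, hj]
    rw [mul_assoc, ← pow_succ, Nat.sub_add_cancel hp1]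
  have hpow : ∀ (T T' : Finset ι), ∀ z ∈ F T', z ^ p ∈ F T := by
    intro T T' z hz
    induction hz using IntermediateField.adjoin_induction with
    | mem x hx => exact pow_mem (IntermediateField.subset_adjoin (F₀ T) _ hx) p
    | algebraMap c => exact hF₀ T (hKpow _ (hK T' c.2) T)
    | add x y _ _ hx hy => rw [add_pow_char]; exact add_mem hx hy
    | inv x _ hx => rw [inv_pow]; exact inv_mem hx
    | mul x y _ _ hx hy => rw [mul_pow]; exact mul_mem hx hy
  -- cofiniteness
  have hfinL : ∀ T, Module.Finite (F T) L := by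
    intro T
    obtain ⟨M, Eg, hEg⟩ := exists_killed_generators (n := n) δ p hfin T
    let S0 : Set L := Set.range (fun i => ψ (Eg i)) ∪ Set.range t
    let F1 : IntermediateField (F T) L := IntermediateField.adjoin (F T) S0
    have hint : ∀ x ∈ S0, IsIntegral (F T) x := by
      rintro x (⟨i, rfl⟩ | ⟨i, rfl⟩)
      · refine IsIntegral.of_pow hp0 ?_
        rw [← map_pow]
        exact isIntegral_algebraMap (R := F T) (A := L)
          (x := ⟨_, hF₀ T (Subfield.subset_closure ⟨_, hpowk T (Eg i), rfl⟩)⟩)
      · refine IsIntegral.of_pow hp0 ?_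
        exact isIntegral_algebraMap (R := F T) (A := L)
          (x := ⟨τ i, IntermediateField.subset_adjoin (F₀ T) _ ⟨i, rfl⟩⟩)
    haveI : Finite S0 := ((Set.finite_range _).union (Set.finite_range _)).to_subtype
    haveI : FiniteDimensional (F T) F1 := IntermediateField.finiteDimensional_adjoin hint
    have hψF1 : ∀ c, ψ c ∈ F1 := by
      intro c
      obtain ⟨g, hg, rfl⟩ := hEg c
      rw [map_sum]
      refine sum_mem fun i _ => ?_
      rw [map_mul]
      exact mul_mem (F1.algebraMap_mem ⟨_, hF₀ T (Subfield.subset_closure ⟨_, hg i, rfl⟩)⟩)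
        (IntermediateField.subset_adjoin (F T) S0 (Or.inl ⟨i, rfl⟩))
    have hKF1 : Kt ≤ F1.toSubfield := Subfield.closure_le.2 (by rintro _ ⟨c, rfl⟩; exact hψF1 c)
    have halg : ∀ g ∈ GG, IsIntegral F1 g := by
      intro g hg
      by_cases hgs : g ∈ s
      · have : g ∈ F1 := IntermediateField.subset_adjoin (F T) S0 (Or.inr (by rw [htr]; exact hgs))
        exact isIntegral_algebraMap (R := F1) (A := L) (x := ⟨g, this⟩)
      · have hdep := hmax g hg hgs
        rw [Finset.coe_insert, AlgebraicIndepOn.insert_iff (by simpa using hgs)] at hdep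
        have h1 : IsAlgebraic (Algebra.adjoin Kt (id '' (s : Set L))) g := by
          by_contra h1
          exact hdep ⟨hs.2, h1⟩
        have hle : ∀ y ∈ Algebra.adjoin Kt (id '' (s : Set L)), y ∈ F1 := by
          intro y hy
          induction hy using Algebra.adjoin_induction with
          | mem y hy =>
            rw [Set.image_id] at hy
            exact IntermediateField.subset_adjoin (F T) S0 (Or.inr (by rw [htr]; exact hy))
          | algebraMap c => exact hKF1 c.2
          | add x y _ _ hx hy => exact add_mem hx hy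
          | mul x y _ _ hx hy => exact mul_mem hx hy
        letI : Algebra (Algebra.adjoin Kt (id '' (s : Set L))) F1 :=
          (RingHom.codRestrict (algebraMap _ L) F1.toSubfield fun y => hle y.1 y.2).toAlgebra
        haveI : IsScalarTower (Algebra.adjoin Kt (id '' (s : Set L))) F1 L := .of_algebraMap_eq fun _ => rfl
        exact (IsAlgebraic.extendScalars (R := Algebra.adjoin Kt (id '' (s : Set L))) (S := F1) (A := L)
          (fun a b hab => Subtype.ext (congrArg (fun z : F1 => (z : L)) hab)) h1).isIntegral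
    let W : IntermediateField F1 L := IntermediateField.adjoin F1 (GG : Set L)
    haveI : FiniteDimensional F1 W := IntermediateField.finiteDimensional_adjoin halg
    have hW : W = ⊤ := eq_top_iff.2 fun z _ => by
      obtain ⟨a, b, -, rfl⟩ := IsFractionRing.div_surjective (A := B) z
      have hB : ∀ x : B, algebraMap B L x ∈ W := fun x => by
        have hx : x ∈ Algebra.adjoin (MvPowerSeries (Fin n) Λ) (G : Set B) := hG ▸ Algebra.mem_top
        induction hx using Algebra.adjoin_induction with
        | mem x hx => exact IntermediateField.subset_adjoin F1 _ (Finset.mem_image_of_mem _ hx)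
        | algebraMap c => exact W.algebraMap_mem ⟨ψ c, hψF1 c⟩
        | add x y _ _ hx hy => rw [map_add]; exact add_mem hx hy
        | mul x y _ _ hx hy => rw [map_mul]; exact mul_mem hx hy
      exact div_mem (hB a) (hB b)
    haveI : FiniteDimensional F1 L :=
      Module.Finite.of_surjective W.val.toLinearMap fun z => ⟨⟨z, hW ▸ trivial⟩, rfl⟩
    exact Module.Finite.trans F1 L
  haveI := hfinL ∅
  obtain ⟨N, e', he'⟩ := Module.Finite.exists_fin (R := F ∅) (M := L)
  let V : ∀ T, Submodule (F T) L := fun T => Submodule.span (F T) (Set.range fun l => e' l ^ p)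
  have hLp : ∀ T (x : L), x ^ p ∈ V T := by
    intro T x
    obtain ⟨c, rfl⟩ := (Submodule.mem_span_range_iff_exists_fun _).mp (he' ▸ Submodule.mem_top : x ∈ _)
    rw [sum_pow_char]
    refine sum_mem fun l _ => ?_
    rw [Subfield.smul_def, smul_eq_mul, mul_pow]
    exact (V T).smul_mem (⟨_, hpow T ∅ _ (c l).2⟩ : F T) (Submodule.subset_span ⟨l, rfl⟩)
  by_cases hcase : ∀ T, algebraMap B L f ∈ V T
  · exfalso
    obtain ⟨w, hw⟩ := exists_root_of_mem_all p F hmono hroot e' _ hcase
    exact hf w hw
  push Not at hcase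
  obtain ⟨T, hT⟩ := hcase
  have hmul : ∀ x ∈ V T, ∀ y ∈ V T, x * y ∈ V T := by
    intro x hx y hy
    induction hx using Submodule.span_induction with
    | mem z hz =>
      obtain ⟨l, rfl⟩ := hz
      induction hy using Submodule.span_induction with
      | mem w hw => obtain ⟨l', rfl⟩ := hw; rw [← mul_pow]; exact hLp T _
      | zero => simp
      | add _ _ _ _ h1 h2 => rw [mul_add]; exact add_mem h1 h2
      | smul c _ _ h1 => rw [mul_smul_comm]; exact (V T).smul_mem c h1
    | zero => simp
    | add _ _ _ _ h1 h2 => rw [add_mul]; exact add_mem h1 h2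
    | smul c _ _ h1 => rw [smul_mul_assoc]; exact (V T).smul_mem c h1
  have hone : (1 : L) ∈ V T := by have := hLp T 1; rwa [one_pow] at this
  have hpowV : ∀ x ∈ V T, ∀ k : ℕ, x ^ k ∈ V T := fun x hx k => by
    induction k with
    | zero => rwa [pow_zero]
    | succ k ih => rw [pow_succ]; exact hmul _ ih _ hx
  let E : Subfield L :=
    { carrier := V T
      mul_mem' := fun {a b} ha hb => hmul a ha b hb
      one_mem' := hone
      add_mem' := fun ha hb => (V T).add_mem ha hb
      zero_mem' := (V T).zero_mem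
      neg_mem' := fun ha => (V T).neg_mem ha
      inv_mem' := fun x hx => by
        by_cases hx0 : x = 0
        · rw [hx0, inv_zero]; exact (V T).zero_mem
        have h := hmul _ (hpowV x hx (p - 1)) _ (hLp T x⁻¹)
        rwa [← Nat.sub_add_cancel (Fact.out : p.Prime).one_le, pow_succ, Nat.add_sub_cancel, ← mul_assoc,
          ← mul_pow, mul_inv_cancel₀ hx0, one_pow, one_mul] at h }
  obtain ⟨d, hd⟩ := KaehlerSubfield.exists_derivation p E (fun x => hLp T x) (y := algebraMap B L f) hT
  have hdk : ∀ c ∈ killed (n := n) δ T, d (ψ c) = 0 := fun c hc => d.map_algebraMap (⟨ψ c, by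
    show ψ c ∈ V T
    rw [← mul_one (ψ c)]
    exact (V T).smul_mem (⟨ψ c, hF₀ T (Subfield.subset_closure ⟨_, hc, rfl⟩)⟩ : F T) hone⟩ : E)
  -- clearing denominators
  obtain ⟨M, Eg, hEg⟩ := exists_killed_generators (n := n) δ p hfin T
  obtain ⟨c₀, hc₀⟩ := IsLocalization.exist_integer_multiples_of_finite (nonZeroDivisors B)
    fun x : Fin M ⊕ G => Sum.elim (fun i => d (ψ (Eg i))) (fun g => d (algebraMap B L g.1)) x
  have hmulc : ∀ x, algebraMap B L c₀ * x ∈ (algebraMap B L).range ↔ IsLocalization.IsInteger B ((c₀ : B) • x) :=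
    fun x => by rw [Algebra.smul_def]; rfl
  have hrange : ∀ a : B, algebraMap B L c₀ * d (algebraMap B L a) ∈ (algebraMap B L).range := by
    intro a
    have ha : a ∈ Algebra.adjoin (MvPowerSeries (Fin n) Λ) (G : Set B) := hG ▸ Algebra.mem_top
    induction ha using Algebra.adjoin_induction with
    | mem x hx => exact (hmulc _).2 (hc₀ (Sum.inr ⟨x, hx⟩))
    | algebraMap c =>
      obtain ⟨g, hg, rfl⟩ := hEg c
      show _ * d (ψ _) ∈ _
      rw [map_sum ψ, map_sum, Finset.mul_sum]
      refine sum_mem fun i _ => ?_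
      rw [map_mul ψ, Derivation.leibniz, hdk _ (hg i), smul_zero, add_zero, smul_eq_mul, mul_left_comm]
      exact mul_mem ⟨φ (g i), rfl⟩ ((hmulc _).2 (hc₀ (Sum.inl i)))
    | add x y _ _ hx hy => rw [map_add, map_add, mul_add]; exact add_mem hx hy
    | mul x y _ _ hx hy =>
      rw [map_mul, Derivation.leibniz, smul_eq_mul, smul_eq_mul, mul_add, mul_left_comm,
        mul_left_comm (algebraMap B L (c₀ : B)) (algebraMap B L y)]
      exact add_mem (mul_mem ⟨x, rfl⟩ hy) (mul_mem ⟨y, rfl⟩ hx)
  choose b hb using hrange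
  have hinj := IsFractionRing.injective B L
  refine ⟨Derivation.mk' (AddMonoidHom.toIntLinearMap (AddMonoidHom.mk' b fun x y => hinj ?_)) fun x y => hinj ?_, ?_⟩
  · rw [map_add, hb, hb, hb, map_add, map_add, mul_add]
  · show algebraMap B L (b (x * y)) = algebraMap B L (x • b y + y • b x)
    rw [hb, map_mul, Derivation.leibniz, smul_eq_mul, smul_eq_mul, smul_eq_mul, smul_eq_mul, map_add, map_mul,
      map_mul, hb, hb]
    ring
  · show b f ≠ 0
    intro h
    have := hb f
    rw [h, map_zero, hd, mul_one] at this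
    exact IsFractionRing.to_map_ne_zero_of_mem_nonZeroDivisors c₀.2 this.symm

/-- Derivations of domains of finite type over complete local rings detect elements which are not `p`-th powers. -/
theorem exists_derivation (R B : Type u) [CommRing R] [IsLocalRing R] [IsNoetherianRing R]
    [IsAdicComplete (maximalIdeal R) R] [CommRing B] [IsDomain B] [Algebra R B] [Algebra.FiniteType R B]
    (L : Type u) [Field L] [Algebra B L] [IsFractionRing B L] (p : ℕ) [Fact p.Prime] [CharP B p]
    (f : B) (hf : ∀ z : L, z ^ p ≠ algebraMap B L f) : ∃ D : Derivation ℤ B B, D f ≠ 0 := by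
  let I : Ideal R := RingHom.ker (algebraMap R B)
  haveI : I.IsPrime := RingHom.ker_isPrime _
  haveI : CharP (R ⧸ I) p :=
    (RingHom.charP_iff (RingHom.kerLift (algebraMap R B)) (RingHom.kerLift_injective _) p).mpr inferInstance
  obtain ⟨_, hc⟩ := completeLocal_of_finite R (R ⧸ I)
  haveI := hc
  obtain ⟨Λ, i1, n, φ, hΛ, hφinj, hφfin, -⟩ := exists_finite_injective (R ⧸ I)
  rcases hΛ with hF | ⟨-, h0⟩
  · letI := hF.toField
    refine exists_derivation_of_finiteType B L p f hf Λ n ((RingHom.kerLift (algebraMap R B)).comp φ)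
      ((RingHom.kerLift_injective _).comp hφinj) ?_
    refine RingHom.FiniteType.comp ?_ (RingHom.Finite.finiteType hφfin)
    exact RingHom.FiniteType.of_comp_finiteType (f := Ideal.Quotient.mk I)
      (RingHom.finiteType_algebraMap.2 ‹Algebra.FiniteType R B›)
  · exact absurd ((ringChar.eq (R ⧸ I) p).symm.trans h0) (Fact.out : p.Prime).ne_zero

end Groth.Agent.Deriv1
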